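import Groth.Agent.TowerStab.Diag
import Groth.Agent.TMul.GlobGen
import Groth.Agent.WeakAssLib.Basic
import Groth.Agent.CurveRR.Zero
import Groth.Agent.QC.Support
import Groth.Agent.QC.Localisation
import Groth.Agent.QC.Closure

/-! A countably generated quasi-coherent module surjects onto the limit of a tower of quotients only if the
tower stabilises. -/

set_option autoImplicit false
set_option backward.isDefEq.respectTransparency false
set_option backward.isDefEq.respectTransparency.types false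
set_option maxHeartbeats 1000000
universe u

open CategoryTheory CategoryTheory.Limits AlgebraicGeometry TopologicalSpace Opposite
open Groth.Agent.QC (res resO res_res res_smul)

namespace Groth.Agent.TowerStab

open Groth.Agent

attribute [local instance] CurveRR.secMod

variable {k : Type u} [Field k] {X : Scheme.{u}} [X.Over (Spec (CommRingCat.of k))]

/-- functions on an affine open have countable dimension -/
theorem exists_countable_span_fun [LocallyOfFiniteType (X ↘ Spec (CommRingCat.of k))] {U : X.Opens}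
    (hU : IsAffineOpen U) :
    letI : Algebra k Γ(X, U) := (CurveRR.cst k X U).toAlgebra
    ∃ T : Set Γ(X, U), T.Countable ∧ Submodule.span k T = ⊤ := by
  letI : Algebra k Γ(X, U) := (CurveRR.cst k X U).toAlgebra
  have hft : (CurveRR.cst k X U).FiniteType :=
    (HasRingHomProperty.appLE @LocallyOfFiniteType (X ↘ Spec (CommRingCat.of k)) inferInstance
      ⟨⊤, isAffineOpen_top _⟩ ⟨U, hU⟩ le_top).comp
      (RingHom.FiniteType.of_surjective _ (ConcreteCategory.bijective_of_isIso (Scheme.ΓSpecIso (CommRingCat.of k)).inv).2)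
  haveI : Algebra.FiniteType k Γ(X, U) := hft
  obtain ⟨n, f, hf⟩ := Algebra.FiniteType.iff_quotient_mvPolynomial''.1 (inferInstance : Algebra.FiniteType k Γ(X, U))
  refine ⟨f '' Set.range (MvPolynomial.basisMonomials (Fin n) k), (Set.countable_range _).image f, ?_⟩
  rw [show (f : MvPolynomial (Fin n) k → Γ(X, U)) = f.toLinearMap from rfl, Submodule.span_image,
    (MvPolynomial.basisMonomials (Fin n) k).span_eq, Submodule.map_top, LinearMap.range_eq_top]
  exact hf

/-- sections of a countably generated module have countable dimension -/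
theorem exists_countable_span_prod [LocallyOfFiniteType (X ↘ Spec (CommRingCat.of k))] {U : X.Opens}
    (hU : IsAffineOpen U) (G : X.Modules) {s : Set Γ(G, U)} (hs : s.Countable)
    (hspan : Submodule.span Γ(X, U) s = ⊤) :
    letI : Algebra k Γ(X, U) := (CurveRR.cst k X U).toAlgebra
    ∃ T : Set (Γ(X, U) × Γ(G, U)), T.Countable ∧ Submodule.span k T = ⊤ := by
  letI : Algebra k Γ(X, U) := (CurveRR.cst k X U).toAlgebra
  haveI : IsScalarTower k Γ(X, U) Γ(G, U) := IsScalarTower.of_algebraMap_smul fun r x => rfl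
  obtain ⟨T, hT, hTs⟩ := exists_countable_span_fun (k := k) hU
  refine ⟨(LinearMap.inl k Γ(X, U) Γ(G, U) '' T) ∪ (LinearMap.inr k Γ(X, U) Γ(G, U) '' (Set.image2 (· • ·) T s)),
    (hT.image _).union ((hT.image2 hs _).image _), ?_⟩
  have h2 : Submodule.span k (Set.image2 (· • ·) T s) = ⊤ := by
    rw [Set.image2_smul, Submodule.span_smul_of_span_eq_top hTs, hspan, Submodule.restrictScalars_top]
  rw [Submodule.span_union, Submodule.span_image, Submodule.span_image, hTs, h2, Submodule.map_top, Submodule.map_top,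
    LinearMap.sup_range_inl_inr]

/-- compatible sections give a section of the limit -/
theorem exists_limit_section (Q : ℕᵒᵖ ⥤ X.Modules) (U : X.Opens) (s : ∀ n : ℕ, Γ(Q.obj (op n), U))
    (hs : ∀ n : ℕ, (Q.map (homOfLE (Nat.le_succ n)).op).app U (s (n + 1)) = s n) :
    ∃ y : Γ(limit Q, U), ∀ n : ℕ, (limit.π Q (op n)).app U y = s n := by
  let ev : X.Modules ⥤ Type u := SheafOfModules.evaluation.{u} X.ringCatSheaf (op U) ⋙ forget _
  haveI hsh : PreservesLimitsOfShape ℕᵒᵖ (SheafOfModules.evaluation.{u} X.ringCatSheaf (op U)) := inferInstance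
  haveI : PreservesLimit Q (SheafOfModules.evaluation.{u} X.ringCatSheaf (op U)) := hsh.preservesLimit
  have h : IsLimit (ev.mapCone (limit.cone Q)) :=
    isLimitOfPreserves (forget _) (isLimitOfPreserves (SheafOfModules.evaluation.{u} X.ringCatSheaf (op U)) (limit.isLimit Q))
  let t : Cone (Q ⋙ ev) :=
    { pt := PUnit
      π := NatTrans.ofOpSequence (fun n => ↾fun _ => s n) fun n => by
        ext ⟨⟩
        exact (hs n).symm }
  refine ⟨h.lift t PUnit.unit, fun n => ?_⟩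
  exact congrArg (fun φ : PUnit ⟶ (Q ⋙ ev).obj (op n) => φ PUnit.unit) (h.fac t (op n))

/-- a point approached by an infinite subfamily -/
theorem exists_limit_point {S : Type*} [TopologicalSpace S] [QuasiSober S] [NoetherianSpace S] (ξ : ℕ → S) {B : Set ℕ}
    (hB : B.Infinite) :
    ∃ (x : S) (J : Set ℕ), J ⊆ B ∧ J.Infinite ∧ ∀ O : Set S, IsOpen O → x ∈ O → {j ∈ J | ξ j ∉ O}.Finite := by
  obtain ⟨Z, hZ, hmin⟩ := (wellFounded_lt (α := Closeds S)).has_min {Z | {j ∈ B | ξ j ∈ (Z : Set S)}.Infinite}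
    ⟨⊤, hB.mono fun j hj => ⟨hj, trivial⟩⟩
  have hne : (Z : Set S).Nonempty := by
    obtain ⟨j, -, hj⟩ := (show {j ∈ B | ξ j ∈ (Z : Set S)}.Infinite from hZ).nonempty
    exact ⟨_, hj⟩
  have hfin : ∀ A : Set S, IsClosed A → ¬ (Z : Set S) ⊆ A → {j ∈ B | ξ j ∈ (Z : Set S) ∧ ξ j ∈ A}.Finite := fun A hA hZA => by
    by_contra hinf
    refine hmin (Z ⊓ ⟨A, hA⟩) ?_ (lt_of_le_of_ne inf_le_left fun h => hZA ?_)
    · exact hinf
    · intro z hz
      have : z ∈ (Z ⊓ ⟨A, hA⟩ : Closeds S) := by rw [h]; exact hz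
      exact this.2
  have hirr : IsIrreducible (Z : Set S) := by
    refine ⟨hne, isPreirreducible_iff_isClosed_union_isClosed.2 fun A₁ A₂ h₁ h₂ hsub => ?_⟩
    by_contra h
    push Not at h
    refine hZ (((hfin A₁ h₁ h.1).union (hfin A₂ h₂ h.2)).subset ?_)
    rintro j ⟨hjB, hj⟩
    rcases hsub hj with h' | h'
    · exact Or.inl ⟨hjB, hj, h'⟩
    · exact Or.inr ⟨hjB, hj, h'⟩
  have hx := hirr.isGenericPoint_genericPoint Z.2
  refine ⟨hirr.genericPoint, {j ∈ B | ξ j ∈ (Z : Set S)}, fun j hj => hj.1, hZ, fun O hO hxO => ?_⟩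
  refine (hfin Oᶜ hO.isClosed_compl fun h => h hx.mem hxO).subset ?_
  rintro j ⟨⟨hjB, hj⟩, hjO⟩
  exact ⟨hjB, hj, hjO⟩

variable (k) in
theorem main [LocallyOfFiniteType (X ↘ Spec (CommRingCat.of k))] [CompactSpace X]
    (Q : ℕᵒᵖ ⥤ X.Modules) (hQ : ∀ n : ℕ, Coh.IsQCoh (Q.obj (op n))) (c : Cone Q)
    (hG : Coh.IsQCoh c.pt)
    (hGc : (∀ U : X.affineOpens, ∃ s : Set Γ(c.pt, U.1), s.Countable ∧ Submodule.span Γ(X, U.1) s = ⊤))
    (hepi : ∀ n : ℕ, Epi (c.π.app (op n))) (hlim : Epi (limit.lift Q c)) :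
    ∃ N : ℕ, ∀ n : ℕ, N ≤ n → IsIso (Q.map (homOfLE (Nat.le_succ n)).op) := by
  classical
  haveI : IsLocallyNoetherian X := LocallyOfFiniteType.isLocallyNoetherian (X ↘ Spec (CommRingCat.of k))
  haveI : IsNoetherian X := {}
  let π' : ∀ n : ℕ, c.pt ⟶ Q.obj (op n) := fun n => c.π.app (op n)
  have hepi' : ∀ n, Epi (π' n) := hepi
  let tr : ∀ n : ℕ, Q.obj (op (n + 1)) ⟶ Q.obj (op n) := fun n => Q.map (homOfLE (Nat.le_succ n)).op
  have hw : ∀ n : ℕ, π' (n + 1) ≫ tr n = π' n := fun n => c.w _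
  let B : Set ℕ := {n | ¬ IsIso (tr n)}
  by_contra hno
  push Not at hno
  have hB : B.Infinite := fun hf => by
    obtain ⟨N, hN⟩ := hf.bddAbove
    obtain ⟨n, hn, hn'⟩ := hno (N + 1)
    exact absurd (hN (show n ∈ B from hn')) (by omega)
  have hker : ∀ n ∈ B, ∃ (ξ : X) (V : X.Opens) (hξ : ξ ∈ V) (s : Γ(Q.obj (op (n + 1)), V)),
      (tr n).app V s = 0 ∧ WeakAssLib.mgerm _ hξ s ≠ 0 := fun n hn => by
    by_contra hall
    push Not at hall
    refine hn ?_
    haveI : Epi (tr n) := by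
      haveI := hepi' n
      exact epi_of_epi_fac (hw n)
    haveI : Mono (tr n) := Preadditive.mono_of_cancel_zero _ fun {Z} a ha => Scheme.Modules.hom_ext _ _ fun V => by
      ext z
      refine (TopCat.Presheaf.IsSheaf.section_ext (Q.obj (op (n + 1))).isSheaf fun y hy => ?_)
      have h0 : (tr n).app V (a.app V z) = 0 := congrArg (fun φ : Z ⟶ _ => φ.app V z) ha
      obtain ⟨W, hyW, i₁, i₂, e⟩ := TopCat.Presheaf.germ_eq (Q.obj (op (n + 1))).presheaf y hy hy (a.app V z) 0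
        ((hall y V hy _ h0).trans (map_zero _).symm)
      exact ⟨W, i₁.le, hyW, e⟩
    exact isIso_of_mono_of_epi _
  obtain ⟨n₀, hn₀⟩ := hB.nonempty
  obtain ⟨ξ₀, -⟩ := hker n₀ hn₀
  let ξ : ℕ → X := fun n => if h : n ∈ B then (hker n h).choose else ξ₀
  obtain ⟨x, J₀, hJ₀B, hJ₀, hJ₀O⟩ := exists_limit_point ξ hB
  obtain ⟨U, hU, hxU, -⟩ := exists_isAffineOpen_mem_and_subset (U := (⊤ : X.Opens)) (x := x) trivial
  let J : Set ℕ := {j ∈ J₀ | ξ j ∈ U}
  have hJ : J.Infinite := (hJ₀.sdiff (hJ₀O U U.2 hxU)).mono fun j hj =>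
    ⟨hj.1, by_contra fun h => hj.2 ⟨hj.1, h⟩⟩
  let p : ∀ n : ℕ, Γ(c.pt, U) →+ Γ(Q.obj (op n), U) := fun n => ((π' n).app U).hom
  have hlift : ∀ j ∈ J, ∃ h : Γ(c.pt, U), p j h = 0 ∧
      ∀ hξ : ξ j ∈ U, WeakAssLib.mgerm _ hξ (p (j + 1) h) ≠ 0 := by
    intro j hj
    have hjB := hJ₀B hj.1
    obtain ⟨V, hV, s, hs0, hsg⟩ : ∃ (V : X.Opens) (hξ : ξ j ∈ V) (s : Γ(Q.obj (op (j + 1)), V)),
        (tr j).app V s = 0 ∧ WeakAssLib.mgerm _ hξ s ≠ 0 := by
      obtain ⟨z, hz, hspec⟩ : ∃ z, ξ j = z ∧ ∃ (V : X.Opens) (hξ : z ∈ V) (s : Γ(Q.obj (op (j + 1)), V)),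
          (tr j).app V s = 0 ∧ WeakAssLib.mgerm _ hξ s ≠ 0 := ⟨_, dif_pos hjB, (hker j hjB).choose_spec⟩
      subst hz
      exact hspec
    haveI : (Q.obj (op (j + 1))).IsQuasicoherent := hQ _
    haveI : (Q.obj (op j)).IsQuasicoherent := hQ _
    obtain ⟨a, haV, hxa⟩ := hU.exists_basicOpen_le (V := V) ⟨ξ j, hV⟩ hj.2
    obtain ⟨m, s', hs'⟩ := (QC.isLoc_of_isQCoh hU (M := Q.obj (op (j + 1)))).exists_extend a
      (res (Q.obj (op (j + 1))) haV s)
    have h0 : res (Q.obj (op j)) (X.basicOpen_le a) ((tr j).app U s') = 0 := by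
      rw [QC.app_res, hs', TMul.app_smul, ← QC.app_res (tr j) haV, hs0, map_zero, smul_zero]
    obtain ⟨m', hm'⟩ := QC.exists_pow_smul_eq_zero_of_isCompact hU.isCompact a _ h0
    haveI := hepi' (j + 1)
    obtain ⟨h, hh⟩ := QC.app_surjective_of_epi (M := c.pt) hU hG (hQ (j + 1))
      (π' (j + 1)) (a ^ m' • s')
    refine ⟨h, ?_, fun hξU => ?_⟩
    · have : (tr j).app U ((π' (j + 1)).app U h) = (π' j).app U h :=
        congrArg (fun φ : c.pt ⟶ _ => φ.app U h) (hw j)
      show (π' j).app U h = 0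
      rw [← this, hh, TMul.app_smul, hm']
    · show WeakAssLib.mgerm _ hξU ((π' (j + 1)).app U h) ≠ 0
      rw [hh, WeakAssLib.mgerm_smul, map_pow]
      have hu : IsUnit (X.presheaf.germ U (ξ j) hξU a) := (X.mem_basicOpen a _ hξU).1 hxa
      rw [Ne, (hu.pow m').smul_eq_zero, ← WeakAssLib.mgerm_res (Q.obj (op (j + 1))) (X.basicOpen_le a) hxa s', hs',
        WeakAssLib.mgerm_smul, map_pow, WeakAssLib.mgerm_res]
      rw [(IsUnit.pow m ?_).smul_eq_zero]
      · exact hsg
      · rw [show (X.presheaf.germ (X.basicOpen a) (ξ j) hxa).hom (resO X (X.basicOpen_le a) a) =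
          X.presheaf.germ U (ξ j) hξU a from X.presheaf.germ_res_apply _ _ _ _]
        exact hu
  choose! h hh0 hhg using hlift
  let H : ℕ → Γ(c.pt, U) := fun j => if j ∈ J then h j else 0
  have hH : ∀ n, p n (H n) = 0 := fun n => by
    by_cases hn : n ∈ J
    · simp only [H, if_pos hn]; exact hh0 n hn
    · simp only [H, if_neg hn, map_zero]
  let γ : (ℕ → Bool) → ℕ → Γ(c.pt, U) := fun b n => ∑ i ∈ Finset.range n, if b i then H i else 0
  letI : Algebra k Γ(X, U) := (CurveRR.cst k X U).toAlgebra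
  haveI : IsScalarTower k Γ(X, U) Γ(c.pt, U) := IsScalarTower.of_algebraMap_smul fun r x => rfl
  obtain ⟨s, hs, hspan⟩ := hGc ⟨U, hU⟩
  obtain ⟨T, hT, hTs⟩ := exists_countable_span_prod (k := k) hU c.pt hs hspan
  let Cond : ℕ → (ℕ → Bool) → Submodule k (Γ(X, U) × Γ(c.pt, U)) := fun j b =>
    { carrier := {w | ∀ hξ : ξ j ∈ U, WeakAssLib.mgerm _ hξ (p (j + 1) (w.2 - w.1 • γ b (j + 1))) = 0}
      add_mem' := fun {v w} hv hw hξ => by
        rw [Prod.fst_add, Prod.snd_add, add_smul, add_sub_add_comm, map_add, map_add, hv hξ, hw hξ, add_zero]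
      zero_mem' := fun hξ => by simp
      smul_mem' := fun r w hw hξ => by
        rw [Prod.smul_fst, Prod.smul_snd, smul_assoc, ← smul_sub, CurveRR.smul_def]
        show WeakAssLib.mgerm _ hξ ((π' (j + 1)).app U (CurveRR.cst k X U r • _)) = 0
        rw [TMul.app_smul, WeakAssLib.mgerm_smul]
        exact (congrArg _ (hw hξ)).trans (smul_zero _) }
  let Bad : ℕ → Γ(X, U) × Γ(c.pt, U) → Prop := fun j w => ¬ (j ∈ J ∧ ξ j ∈ X.basicOpen w.1)
  obtain ⟨b, hb⟩ := exists_diag hT hTs hJ Cond Bad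
    (fun j b b' hbb => by
      have : γ b (j + 1) = γ b' (j + 1) := Finset.sum_congr rfl fun i hi => by
        rw [hbb i (Nat.lt_succ_iff.1 (Finset.mem_range.1 hi))]
      ext w
      show (∀ hξ, _ = 0) ↔ (∀ hξ, _ = 0)
      rw [this])
    (fun j b w hwf hwt ⟨hj, hjw⟩ => by
      have e : γ (Function.update b j true) (j + 1) = γ (Function.update b j false) (j + 1) + h j := by
        simp only [γ, Finset.sum_range_succ, Function.update_self, if_true, Bool.false_eq_true, if_false, add_zero, H,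
          if_pos hj]
        refine congrArg (· + h j) (Finset.sum_congr rfl fun i hi => ?_)
        rw [Function.update_of_ne (Finset.mem_range.1 hi).ne, Function.update_of_ne (Finset.mem_range.1 hi).ne]
      have h1 := hwf hj.2
      have h2 := hwt hj.2
      rw [e, smul_add, ← sub_sub, map_sub, map_sub, h1, zero_sub, neg_eq_zero] at h2
      have h3 : (X.presheaf.germ U (ξ j) hj.2).hom w.1 • WeakAssLib.mgerm _ hj.2 (p (j + 1) (h j)) = 0 := by
        rw [← WeakAssLib.mgerm_smul, ← show p (j + 1) (w.1 • h j) = w.1 • p (j + 1) (h j) from TMul.app_smul _ _ _]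
        exact h2
      exact hhg j hj hj.2 (((X.mem_basicOpen w.1 _ hj.2).1 hjw).smul_eq_zero.1 h3))
  -- the section of the limit and a local lift of it
  obtain ⟨y, hy⟩ := exists_limit_section Q U (fun n => p n (γ b n)) fun n => by
    show (tr n).app U ((π' (n + 1)).app U (γ b (n + 1))) = p n (γ b n)
    rw [show (tr n).app U ((π' (n + 1)).app U (γ b (n + 1))) = p n (γ b (n + 1)) from
      congrArg (fun φ : c.pt ⟶ _ => φ.app U (γ b (n + 1))) (hw n)]
    simp only [γ, Finset.sum_range_succ, map_add]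
    split_ifs
    · rw [hH n, add_zero]
    · rw [map_zero, add_zero]
  obtain ⟨V, hVU, hxV, g, hg⟩ := TMul.exists_app_eq_of_epi (limit.lift Q c) y hxU
  obtain ⟨f, hfV, hxf⟩ := hU.exists_basicOpen_le (V := V) ⟨x, hxV⟩ hxU
  haveI : c.pt.IsQuasicoherent := hG
  obtain ⟨N, g', hg'⟩ := (QC.isLoc_of_isQCoh hU (M := c.pt)).exists_extend f (res c.pt hfV g)
  obtain ⟨B', hB'⟩ := (hJ₀O (X.basicOpen (f ^ (N + 1))) (X.basicOpen (f ^ (N + 1))).2
    (by rw [X.basicOpen_pow f N.succ_pos]; exact hxf)).bddAbove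
  have hgood : ∀ j ∈ J, B' + 1 ≤ j → ξ j ∈ X.basicOpen (f ^ (N + 1)) := fun j hj hle => by
    by_contra hjf
    have := hB' (show j ∈ {j ∈ J₀ | ξ j ∉ (X.basicOpen (f ^ (N + 1)) : Set X)} from ⟨hj.1, hjf⟩)
    omega
  obtain ⟨j, hj, hle, hnot⟩ := hb (f ^ (N + 1), f • g') (B' + 1)
    fun j hj hle h => h ⟨hj, hgood j hj hle⟩
  refine hnot fun hξ => ?_
  have hξf : ξ j ∈ X.basicOpen f := by
    have := hgood j hj hle
    rwa [X.basicOpen_pow f N.succ_pos] at this
  rw [← WeakAssLib.mgerm_res (Q.obj (op (j + 1))) (X.basicOpen_le f) hξf]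
  refine (congrArg _ ?_).trans (map_zero _)
  show res (Q.obj (op (j + 1))) (X.basicOpen_le f)
    ((π' (j + 1)).app U (f • g' - f ^ (N + 1) • γ b (j + 1))) = 0
  have hgy : (π' (j + 1)).app V g = res (Q.obj (op (j + 1))) hVU (p (j + 1) (γ b (j + 1))) := by
    rw [← hy (j + 1), QC.app_res, ← hg]
    exact congrArg (fun φ : c.pt ⟶ _ => φ.app V g) (limit.lift_π c (op (j + 1))).symm
  rw [map_sub, map_sub, TMul.app_smul, TMul.app_smul, res_smul, res_smul, QC.app_res (π' (j + 1)) (X.basicOpen_le f) g', hg', TMul.app_smul,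
    ← QC.app_res (π' (j + 1)) hfV g,
    hgy, res_res, map_pow, pow_succ', mul_smul, sub_self]

end Groth.Agent.TowerStab
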