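import Mathlib.LinearAlgebra.FiniteDimensional.Lemmas
import Mathlib.Data.Nat.Pairing
import Mathlib.Data.Nat.Nth
import Mathlib.Data.Set.Countable

/-! A diagonal choice of signs defeating countably generated families of linear conditions. -/

set_option autoImplicit false

namespace Groth.Agent.TowerStab

open Set

variable {k W : Type*} [Field k] [AddCommGroup W] [Module k W]

/-- Update-based recursion: a sequence each of whose values is computed from the earlier ones. -/
theorem exists_seq (ch : ℕ → (ℕ → Bool) → Bool)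
    (hch : ∀ j c c', (∀ i < j, c i = c' i) → ch j c = ch j c') : ∃ c : ℕ → Bool, ∀ j, c j = ch j c := by
  classical
  let F : ℕ → ℕ → Bool := fun n => Nat.rec (fun _ => false) (fun j Fj => Function.update Fj j (ch j Fj)) n
  have hF : ∀ n i, i < n → F n i = F (i + 1) i := by
    intro n
    induction n with
    | zero => intro i hi; omega
    | succ n ih =>
      intro i hi
      rcases Nat.lt_succ_iff_lt_or_eq.1 hi with h | rfl
      · show Function.update (F n) n (ch n (F n)) i = _
        rw [Function.update_of_ne h.ne]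
        exact ih i h
      · rfl
  refine ⟨fun i => F (i + 1) i, fun j => ?_⟩
  show Function.update (F j) j (ch j (F j)) j = _
  rw [Function.update_self]
  exact hch j _ _ fun i hi => hF j i hi

/-- **Diagonal lemma.** Conditions `Cond j c` depending on the choices up to `j`, such that a vector
satisfying both versions at `j` is bad at `j`: there are choices such that a vector good at all large
indices of `J` violates one of these conditions. -/
theorem exists_diag {T : Set W} (hT : T.Countable) (hspan : Submodule.span k T = ⊤) {J : Set ℕ} (hJ : J.Infinite)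
    (Cond : ℕ → (ℕ → Bool) → Submodule k W) (Bad : ℕ → W → Prop)
    (hdep : ∀ j c c', (∀ i ≤ j, c i = c' i) → Cond j c = Cond j c')
    (hsep : ∀ j, ∀ c w, w ∈ Cond j (Function.update c j false) → w ∈ Cond j (Function.update c j true) → Bad j w) :
    ∃ c : ℕ → Bool, ∀ (w : W) (s : ℕ), (∀ j ∈ J, s ≤ j → ¬ Bad j w) → ∃ j ∈ J, s ≤ j ∧ w ∉ Cond j c := by
  classical
  obtain ⟨e, he⟩ := (hT.insert 0).exists_eq_range (insert_nonempty 0 T)
  let V : ℕ → Submodule k W := fun m => Submodule.span k (e '' (Finset.range m : Finset ℕ))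
  have hV : ∀ w, ∃ m, w ∈ V m := by
    intro w
    have hw : w ∈ Submodule.span k (Set.range e) := by
      rw [← he, Submodule.span_insert_zero, hspan]; trivial
    obtain ⟨s, hs, hws⟩ := Submodule.mem_span_finite_of_mem_span hw
    choose! n hn using fun x (hx : x ∈ s) => hs hx
    refine ⟨s.sup n + 1, Submodule.span_mono ?_ hws⟩
    intro x hx
    refine ⟨n x, ?_, hn x hx⟩
    simpa [Nat.lt_succ_iff] using Finset.le_sup (f := n) (Finset.mem_coe.1 hx)
  let tag : ℕ → ℕ × ℕ := fun j => Nat.unpair (Nat.unpair (Nat.count (· ∈ J) j)).1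
  let S : ℕ → (ℕ → Bool) → Submodule k W := fun j c =>
    V (tag j).1 ⊓ ⨅ (i : ℕ) (_ : i < j ∧ i ∈ J ∧ tag i = tag j ∧ (tag j).2 ≤ i), Cond i c
  let ch : ℕ → (ℕ → Bool) → Bool := fun j c =>
    decide (S j c ≤ Cond j (Function.update c j false))
  have hS : ∀ j c c', (∀ i < j, c i = c' i) → S j c = S j c' := fun j c c' h => by
    refine congrArg (V (tag j).1 ⊓ ·) (iInf_congr fun i => iInf_congr fun hi => ?_)
    exact hdep i c c' fun l hl => h l (lt_of_le_of_lt hl hi.1)
  obtain ⟨c, hc⟩ := exists_seq ch fun j a b h => by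
    simp only [ch]
    rw [hS j a b h, hdep j (Function.update a j false) (Function.update b j false) fun i hi => by
      rcases eq_or_ne i j with rfl | hne
      · simp
      · rw [Function.update_of_ne hne, Function.update_of_ne hne, h i (lt_of_le_of_ne hi hne)]]
  refine ⟨c, fun w s hgood => ?_⟩
  by_contra hall
  push Not at hall
  obtain ⟨m, hm⟩ := hV w
  let C : Set ℕ := {j | j ∈ J ∧ tag j = (m, s) ∧ s ≤ j}
  have hC : C.Infinite := by
    have h1 : Set.Infinite ((fun q => Nat.nth (· ∈ J) (Nat.pair (Nat.pair m s) q)) '' Set.univ) := by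
      refine Set.Infinite.image ?_ Set.infinite_univ
      intro a _ b _ hab
      exact (Nat.pair_eq_pair.1 (Nat.nth_injective hJ hab)).2
    refine (h1.sdiff (Set.finite_lt_nat s)).mono ?_
    rintro _ ⟨⟨q, -, rfl⟩, hq⟩
    refine ⟨Nat.nth_mem_of_infinite hJ _, ?_, not_lt.1 hq⟩
    show Nat.unpair (Nat.unpair (Nat.count (fun x => x ∈ J) (Nat.nth (fun x => x ∈ J) _))).1 = (m, s)
    rw [Nat.count_nth_of_infinite (p := fun x => x ∈ J) hJ, Nat.unpair_pair, Nat.unpair_pair]
  have hlt : ∀ i j, i ∈ C → j ∈ C → i < j → S j c < S i c := by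
    intro i j hi hj hij
    have hle : S j c ≤ S i c ⊓ Cond i c := by
      refine le_inf (le_inf (inf_le_left.trans (by rw [hi.2.1, hj.2.1])) ?_) ?_
      · refine le_iInf fun l => le_iInf fun hl => inf_le_right.trans (iInf₂_le l ?_)
        exact ⟨hl.1.trans hij, hl.2.1, hl.2.2.1.trans (hi.2.1.trans hj.2.1.symm), by
          rw [hj.2.1]; simpa [hi.2.1] using hl.2.2.2⟩
      · exact inf_le_right.trans (iInf₂_le i ⟨hij, hi.1, hi.2.1.trans hj.2.1.symm, by rw [hj.2.1]; exact hi.2.2⟩)
    refine lt_of_le_of_lt hle (lt_of_le_not_ge inf_le_left fun h => ?_)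
    have h' : S i c ≤ Cond i c := h.trans inf_le_right
    have hw : w ∈ S i c := by
      refine Submodule.mem_inf.2 ⟨by rw [hi.2.1]; exact hm, ?_⟩
      simp only [Submodule.mem_iInf]
      exact fun l hl => hall l hl.2.1 (by simpa [hi.2.1] using hl.2.2.2)
    have hupd : ∀ b : Bool, c i = b → Cond i c = Cond i (Function.update c i b) := fun b hb => by
      rw [← hb, Function.update_eq_self]
    by_cases h0 : S i c ≤ Cond i (Function.update c i false)
    · have hci : c i = true := by rw [hc i]; simpa [ch] using h0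
      exact hgood i hi.1 hi.2.2 (hsep i c w (h0 hw) ((hupd true hci).le (h' hw)))
    · have hci : c i = false := by rw [hc i]; simpa [ch] using h0
      exact h0 (h'.trans (hupd false hci).le)
  let d : ℕ → ℕ := fun q => Module.finrank k (S (Nat.nth (· ∈ C) q) c)
  have hd : StrictAnti d := by
    refine strictAnti_nat_of_succ_lt fun q => ?_
    have hfin : ∀ j, FiniteDimensional k (S j c) := fun j =>
      haveI : FiniteDimensional k (V (tag j).1) :=
        FiniteDimensional.span_of_finite k ((Finset.finite_toSet _).image e)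
      Submodule.finiteDimensional_of_le inf_le_left
    haveI := hfin (Nat.nth (· ∈ C) q)
    exact Submodule.finrank_lt_finrank_of_lt (hlt _ _ (Nat.nth_mem_of_infinite hC q)
      (Nat.nth_mem_of_infinite hC (q + 1)) (Nat.nth_strictMono hC (Nat.lt_succ_self q)))
  exact not_strictAnti_of_wellFoundedLT d hd

end Groth.Agent.TowerStab
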